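import Cfsg.Agent.H716.RGDAbMinus
import Cfsg.Agent.KFacts.RgdFiltClass

/-!
# The groups `PΩ⁻` in characteristic two: root group data with abelian torus (helper829, task 2183)
-/

set_option autoImplicit false
set_option linter.unusedSectionVars false

namespace Cfsg.Agent.H829.Pron

open Cfsg
open Cfsg.Agent.ChevalleyStructure.CoxeterGeom Cfsg.Agent.Tits.Roots
open Cfsg.Agent.Nodes.Comb Cfsg.Agent.Nodes.Reps Cfsg.Agent.Nodes.WittRoot Cfsg.Agent.Nodes.BNOf
open Cfsg.Agent.Nodes Cfsg.Agent.Nodes.RGDLib Cfsg.Agent.Nodes.WittAll Cfsg.Agent.Nodes.WittU Cfsg.Agent.Nodes.RGDChev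
open Cfsg.Agent.Nodes.WittInst
open Cfsg.Agent.Nodes.WittRGD (Tor mem_Tor)
open Cfsg.Agent.TitsThree Cfsg.Agent.TitsThree.Siegel Cfsg.Agent.TitsThree.SiegelGen
  Cfsg.Agent.TitsThree.WittFrame Cfsg.Agent.TitsThree.WBridge Cfsg.Agent.TitsThree.WittWeyl
  Cfsg.Agent.TitsThree.FrameCN
open QuadraticMap
open Cfsg.Agent.LieClassical Cfsg.Agent.LieClassical.OrthCore Cfsg.Agent.LieClassical.OrthTrans
open Cfsg.Agent.LieClassical.OrthSimple Cfsg.Agent.LieClassical.OrthFinite
open Cfsg.Agent.LieClassical.OrthForms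
open Cfsg.Agent.TitsThree.KSideO Cfsg.Agent.TitsThree.StdData
open Cfsg.Agent.H716.RGDAb

variable {F : Type*} [Field F] {m : ℕ} {a b : F}

/-- isometries of the plane with form `z² + a z w + b w²`, characteristic two -/
theorem rot_or (h2 : (2 : F) = 0) (ha : a ≠ 0) {x y z w : F} (h1 : x ^ 2 + a * x * z + b * z ^ 2 = 1)
    (hy : y ^ 2 + a * y * w + b * w ^ 2 = b) (hB : 2 * x * y + a * (x * w + z * y) + 2 * b * z * w = a) :
    (y = b * z ∧ w = x + a * z) ∨ (y = b * z + a * x ∧ w = x) := by
  have hd : x * w + z * y = 1 := by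
    have : a * (x * w + z * y - 1) = 0 := by linear_combination hB - (x * y + b * z * w) * h2
    have := (mul_eq_zero.1 this).resolve_left ha
    linear_combination this
  have hx : x * (w + x + a * z) = z * (y + b * z) := by
    linear_combination hd + h1 + (1 - z * y - b * z ^ 2) * h2
  obtain ⟨l, hl⟩ : ∃ l, l = (x + a * z) * (y + b * z) + b * z * (w + x + a * z) := ⟨_, rfl⟩
  have e1 : y + b * z = l * x := by
    rw [hl]
    linear_combination -(y + b * z) * h1 - (b * z) * hx
  have e2 : w + x + a * z = l * z := by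
    rw [hl]
    linear_combination -(w + x + a * z) * h1 + (x + a * z) * hx
  have ey : y = l * x - b * z := by linear_combination e1
  have ew : w = l * z - x - a * z := by linear_combination e2
  have hll : l * (l - a) = 0 := by
    rw [ey, ew] at hy
    linear_combination hy - (l ^ 2 - a * l + b) * h1 + (l * (2 * b * x * z + a * b * z ^ 2) -
      a * b * (x * z + a * z ^ 2)) * h2
  rcases mul_eq_zero.1 hll with h3 | h3
  · left
    rw [h3] at ey ew
    exact ⟨by linear_combination ey - (b * z) * h2, by linear_combination ew - (x + a * z) * h2⟩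
  · right
    have h4 : l = a := by linear_combination h3
    rw [h4] at ey ew
    exact ⟨by linear_combination ey - (b * z) * h2, by linear_combination ew - x * h2⟩

variable (hab : ∀ z₁ z₂ : F, z₁ ^ 2 + a * z₁ * z₂ + b * z₂ ^ 2 = 0 → z₁ = 0 ∧ z₂ = 0)

/-- the action of an element of odd order of the torus on the anisotropic plane, characteristic two -/
theorem exists_rot_two (h2 : (2 : F) = 0) (ha : a ≠ 0)
    (hV0 : ∀ g ∈ Tor (toFrame (wminus m F a b hab)) (E (minusForm m F a b)),
      ∀ w ∈ (toFrame (wminus m F a b hab)).V0, g w ∈ (toFrame (wminus m F a b hab)).V0)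
    {g : ((Fin m ⊕ Fin m) ⊕ Fin 2 → F) ≃ₗ[F] ((Fin m ⊕ Fin m) ⊕ Fin 2 → F)}
    (hg : g ∈ Tor (toFrame (wminus m F a b hab)) (E (minusForm m F a b))) (hodd : Odd (orderOf g)) :
    ∃ x z : F, g (e0 m F) = x • e0 m F + z • e1 m F ∧
      g (e1 m F) = (b * z) • e0 m F + (x + a * z) • e1 m F := by
  classical
  have hgE := hg.1
  have hiso : ∀ u v, polar (minusForm m F a b) (g u) (g v) = polar (minusForm m F a b) u v :=
    fun u v => polar_map (E_le_O hgE) u v
  have hQ : ∀ u, minusForm m F a b (g u) = minusForm m F a b u := fun u => mem_O.1 (E_le_O hgE) u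
  have hm0 : e0 m F ∈ (toFrame (wminus m F a b hab)).V0 := fun j => by simp [e0]
  have hm1 : e1 m F ∈ (toFrame (wminus m F a b hab)).V0 := fun j => by simp [e1]
  have h0 : ∀ j, g (e0 m F) (Sum.inl j) = 0 := hV0 g hg _ hm0
  have h1 : ∀ j, g (e1 m F) (Sum.inl j) = 0 := hV0 g hg _ hm1
  obtain ⟨x, hx⟩ : ∃ x, x = g (e0 m F) (Sum.inr 0) := ⟨_, rfl⟩
  obtain ⟨z, hz⟩ : ∃ z, z = g (e0 m F) (Sum.inr 1) := ⟨_, rfl⟩
  obtain ⟨y, hy⟩ : ∃ y, y = g (e1 m F) (Sum.inr 0) := ⟨_, rfl⟩
  obtain ⟨w, hw⟩ : ∃ w, w = g (e1 m F) (Sum.inr 1) := ⟨_, rfl⟩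
  have e0' : g (e0 m F) = x • e0 m F + z • e1 m F := by
    funext j
    rcases j with j | j
    · rw [h0]; simp [e0, e1]
    · fin_cases j
      · simp [e0, e1, hx]
      · simp [e0, e1, hz]
  have e1' : g (e1 m F) = y • e0 m F + w • e1 m F := by
    funext j
    rcases j with j | j
    · rw [h1]; simp [e0, e1]
    · fin_cases j
      · simp [e0, e1, hy]
      · simp [e0, e1, hw]
  have hq : x ^ 2 + a * x * z + b * z ^ 2 = 1 := by
    have h3 := hQ (e0 m F)
    rw [coe_minusForm, quadFormMinus_apply, quadFormMinus_apply] at h3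
    simp only [h0, e0', Pi.add_apply, Pi.smul_apply, smul_eq_mul] at h3
    simp [e0, e1] at h3
    exact h3
  have hq' : y ^ 2 + a * y * w + b * w ^ 2 = b := by
    have h3 := hQ (e1 m F)
    rw [coe_minusForm, quadFormMinus_apply, quadFormMinus_apply] at h3
    simp only [h1, e1', Pi.add_apply, Pi.smul_apply, smul_eq_mul] at h3
    simp [e0, e1] at h3
    exact h3
  have hB : 2 * x * y + a * (x * w + z * y) + 2 * b * z * w = a := by
    have h3 := hiso (e0 m F) (e1 m F)
    rw [e0', e1', polar_minusForm, polar_minusForm] at h3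
    simp [e0, e1] at h3
    linear_combination h3
  rcases rot_or h2 ha hq hq' hB with ⟨r1, r2⟩ | ⟨r1, r2⟩
  · exact ⟨x, z, e0', by rw [← r1, ← r2]; exact e1'⟩
  · exfalso
    -- `g` is an involution on the plane
    have s0 : (g * g) (e0 m F) = e0 m F := by
      show g (g (e0 m F)) = _
      rw [e0', map_add, map_smul, map_smul, e0', e1', r1, r2]
      have c0 : x * x + z * (b * z + a * x) = 1 := by linear_combination hq
      have c1 : x * z + z * x = 0 := by linear_combination (x * z) * h2
      calc x • (x • e0 m F + z • e1 m F) + z • ((b * z + a * x) • e0 m F + x • e1 m F) =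
          (x * x + z * (b * z + a * x)) • e0 m F + (x * z + z * x) • e1 m F := by module
        _ = _ := by rw [c0, c1, one_smul, zero_smul, add_zero]
    obtain ⟨k, hk⟩ := hodd
    have s1 : ∀ k : ℕ, ((g * g) ^ k) (e0 m F) = e0 m F := by
      intro k
      induction k with
      | zero => rfl
      | succ k ih =>
        rw [pow_succ']
        show (g * g) (((g * g) ^ k) (e0 m F)) = _
        rw [ih, s0]
    have s2 : g (e0 m F) = e0 m F := by
      have h3 := pow_orderOf_eq_one g
      rw [hk, pow_succ', pow_mul, pow_two] at h3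
      have h4 := LinearEquiv.congr_fun h3 (e0 m F)
      have h5 : g (((g * g) ^ k) (e0 m F)) = e0 m F := h4
      rwa [s1] at h5
    have s0' : (g * g) (e1 m F) = e1 m F := by
      show g (g (e1 m F)) = _
      rw [e1', map_add, map_smul, map_smul, e0', e1', r1, r2]
      have c0 : x * x + z * (b * z + a * x) = 1 := by linear_combination hq
      have c1 : (b * z + a * x) * x + x * (b * z + a * x) = 0 := by linear_combination ((b * z + a * x) * x) * h2
      calc (b * z + a * x) • (x • e0 m F + z • e1 m F) + x • ((b * z + a * x) • e0 m F + x • e1 m F) =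
          ((b * z + a * x) * x + x * (b * z + a * x)) • e0 m F + (x * x + z * (b * z + a * x)) • e1 m F := by module
        _ = _ := by rw [c0, c1, one_smul, zero_smul, zero_add]
    have s1' : ∀ k : ℕ, ((g * g) ^ k) (e1 m F) = e1 m F := by
      intro k
      induction k with
      | zero => rfl
      | succ k ih =>
        rw [pow_succ']
        show (g * g) (((g * g) ^ k) (e1 m F)) = _
        rw [ih, s0']
    have s2' : g (e1 m F) = e1 m F := by
      have h3 := pow_orderOf_eq_one g
      rw [hk, pow_succ', pow_mul, pow_two] at h3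
      have h4 := LinearEquiv.congr_fun h3 (e1 m F)
      have h5 : g (((g * g) ^ k) (e1 m F)) = e1 m F := h4
      rwa [s1'] at h5
    have hx1 : x = 1 := by rw [hx, s2]; simp [e0]
    have hz0 : z = 0 := by rw [hz, s2]; simp [e0]
    have hy0 : y = 0 := by rw [hy, s2']; simp [e1]
    rw [hy0, hx1, hz0] at r1
    exact ha (by linear_combination -r1)

/-- **`PΩ⁻_{2m+2}(F)`, `F` of characteristic two.** -/
theorem ab_PO_minus_two [Finite F] (h2 : (2 : F) = 0)
    (hab : ∀ z₁ z₂ : F, z₁ ^ 2 + a * z₁ * z₂ + b * z₂ ^ 2 = 0 → z₁ = 0 ∧ z₂ = 0)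
    (hm : 2 ≤ m) [CharP F 2] :
    HasRGDAb 2 (Cfsg.POmega F (Cfsg.quadFormMinus m F a b)) := by
  have hf2 : Fact (Nat.Prime 2) := ⟨Nat.prime_two⟩
  have ha : a ≠ 0 := by
    rintro rfl
    obtain ⟨c, hc⟩ : ∃ c : F, c * c = b := by
      have hsurj : Function.Surjective (fun c : F => c * c) := by
        refine Finite.surjective_of_injective fun c d h => ?_
        have h3 : (c - d) * (c - d) = 0 := by
          have h4 : c * c = d * d := h
          linear_combination h4 + (d * d - c * d) * h2
        exact sub_eq_zero.1 (mul_self_eq_zero.1 h3)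
      exact hsurj b
    have h3 := (hab c 1 (by linear_combination -hc + b * h2 + 2 * hc)).2
    exact one_ne_zero h3
  rw [← coe_minusForm]
  have hG : Good (minusForm m F a b) := by
    apply good_of_finite (nondeg_minusForm m F a b hab)
    rw [Module.finrank_fintype_fun_eq_card, Fintype.card_sum, Fintype.card_sum, Fintype.card_fin,
      Fintype.card_fin]
    omega
  have hp : ((embMinus m F a b hab).ngt ⟨(1, 0), -nf a b (1, 0), rfl⟩).c ≠ 0 := by
    change (1 : F)⁻¹ * (-nf a b (1, 0)) ≠ 0
    simp [nf]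
  have hA : AmbT (toFrame (wminus m F a b hab)) 2 (E (minusForm m F a b)) :=
    ambT_O _ fun g hg hg2 hb => fixp_minus a b hab h2 hm hG hg hg2 hb
  have hV0 : ∀ g ∈ Tor (toFrame (wminus m F a b hab)) (E (minusForm m F a b)),
      ∀ w ∈ (toFrame (wminus m F a b hab)).V0, g w ∈ (toFrame (wminus m F a b hab)).V0 :=
    fun g hg w hw => hA.map_V0 hg.1 hg.2 (ρ := id) (fun _ => rfl) hw
  have hodd : ∀ g ∈ Tor (toFrame (wminus m F a b hab)) (E (minusForm m F a b)), Odd (orderOf g) := by
    intro g hg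
    have h3 := (rgdC hA hp (CoxeterMatrix.B m).toCoxeterSystem).tcop
    have h4 : orderOf g ∣ Nat.card ↥(Tor (toFrame (wminus m F a b hab)) (E (minusForm m F a b))) :=
      Subgroup.orderOf_dvd_natCard _ hg
    exact Nat.Coprime.odd_of_right (Nat.Coprime.coprime_dvd_left h4 h3)
  refine ab_C (model (wminus m F a b hab) hG ⟨_, hp⟩) hA hp (by omega) fun s hs t ht w hw => ?_
  obtain ⟨x, z, hs0, hs1⟩ := exists_rot_two hab h2 ha hV0 hs (hodd s hs)
  obtain ⟨x', z', ht0, ht1⟩ := exists_rot_two hab h2 ha hV0 ht (hodd t ht)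
  have hw' : ∀ j, w (Sum.inl j) = 0 := hw
  have hwe : w = w (Sum.inr 0) • e0 m F + w (Sum.inr 1) • e1 m F := by
    funext j
    rcases j with j | j
    · rw [hw']; simp [e0, e1]
    · fin_cases j
      · simp [e0, e1]
      · simp [e0, e1]
  have c0 : s (t (e0 m F)) = t (s (e0 m F)) := by
    rw [ht0, hs0, map_add, map_smul, map_smul, map_add, map_smul, map_smul, ht0, ht1, hs0, hs1]
    simp only [smul_add, smul_smul]
    module
  have c1 : s (t (e1 m F)) = t (s (e1 m F)) := by
    rw [ht1, hs1, map_add, map_smul, map_smul, map_add, map_smul, map_smul, ht0, ht1, hs0, hs1]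
    simp only [smul_add, smul_smul]
    module
  rw [hwe]
  simp only [map_add, map_smul]
  rw [c0, c1]

end Cfsg.Agent.H829.Pron
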