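import Mathlib
import Cfsg.Agent.H408.Pron.Defs
import Cfsg.Agent.H806.RowCharTwo
import Cfsg.Agent.H829.Pron.MinusTwo
import Cfsg.Agent.KFacts.RgdAut
import Cfsg.Agent.KFacts.TwF4.SylU
import Cfsg.Agent.KFacts.TwF4.CentZ
import Cfsg.Agent.ThreePrime.SzDataExists

/-!
# S2527, the row of the groups of Lie type of characteristic two (helper829, task 2183)

* `po_of_bn` : a Sylow 2-subgroup `S` with a commutative complement `T` in `N(S) = S T` and a decomposition
  `G = S N(T) S`;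
* `po_of_rgdAb`, `po_sz`, `po_twF4`, `row_char2`.
-/

set_option autoImplicit false
set_option linter.unusedSectionVars false

namespace Cfsg.Agent.H829.Pron

open Cfsg Cfsg.Agent.H408.Pron
open scoped Pointwise

universe u

/-- **The abstract row.** -/
theorem po_of_bn {G : Type*} [Group G] [Finite G] (S : Sylow 2 G) (T : Subgroup G)
    (hTS : ∀ t ∈ T, ∀ x ∈ (S : Subgroup G), t * x * t⁻¹ ∈ (S : Subgroup G))
    (hTc : ∀ s ∈ T, ∀ t ∈ T, s * t = t * s)
    (hN : ∀ g ∈ Subgroup.normalizer ((S : Subgroup G) : Set G), ∃ u ∈ (S : Subgroup G), ∃ t ∈ T, g = u * t)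
    (hB : ∀ g : G, ∃ a ∈ (S : Subgroup G), ∃ n : G, (∀ t ∈ T, n⁻¹ * t * n ∈ T) ∧
      ∃ b ∈ (S : Subgroup G), g = a * n * b) : PO G := by
  have : Fact (Nat.Prime 2) := ⟨Nat.prime_two⟩
  refine PO.of_norm S fun H hH m hm => Or.inr ?_
  obtain ⟨u, hu, t, ht, rfl⟩ := hN m hm
  have key : ∀ x ∈ H, t * x * t⁻¹ ∈ H := by
    intro x hx
    obtain ⟨a, ha, n, hn, b, hb, hx'⟩ := hB x
    obtain ⟨K, hK⟩ : ∃ K : Subgroup G, K = (S : Subgroup G) ⊔ (S : Subgroup G).map (MulAut.conj n).toMonoidHom :=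
      ⟨_, rfl⟩
    have hSK : (S : Subgroup G) ≤ K := by rw [hK]; exact le_sup_left
    have hnS : ∀ s ∈ (S : Subgroup G), n * s * n⁻¹ ∈ K := fun s hs => by
      rw [hK]; exact Subgroup.mem_sup_right ⟨s, hs, rfl⟩
    have hxS : ∀ s ∈ (S : Subgroup G), x * s * x⁻¹ ∈ K := by
      intro s hs
      have h1 : n * (b * s * b⁻¹) * n⁻¹ ∈ K := hnS _ (mul_mem (mul_mem hb hs) (inv_mem hb))
      have h2 := mul_mem (mul_mem (hSK ha) h1) (inv_mem (hSK ha))
      rw [hx']
      convert h2 using 1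
      group
    have hKH : K ≤ H := by
      have hn' : n = a⁻¹ * x * b⁻¹ := by rw [hx']; group
      have hnH : n ∈ H := by
        rw [hn']
        exact mul_mem (mul_mem (inv_mem (hH ha)) hx) (inv_mem (hH hb))
      rw [hK]
      refine sup_le hH ?_
      rintro _ ⟨s, hs, rfl⟩
      exact mul_mem (mul_mem hnH (hH hs)) (inv_mem hnH)
    -- `t` normalises `K`
    have htK : K ≤ K.comap (MulAut.conj t).toMonoidHom := by
      conv_lhs => rw [hK]
      refine sup_le (fun s hs => hSK (hTS t ht s hs)) ?_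
      rintro _ ⟨s, hs, rfl⟩
      have h1 := hnS _ (hTS _ (hn t ht) s hs)
      show t * (n * s * n⁻¹) * t⁻¹ ∈ K
      convert h1 using 1
      group
    -- Sylow in `K`
    have hle : ((x • S : Sylow 2 G) : Subgroup G) ≤ K := by
      rw [Sylow.coe_subgroup_smul]
      intro y hy
      obtain ⟨s, hs, rfl⟩ := (Subgroup.mem_smul_pointwise_iff_exists _ _ _).1 hy
      exact hxS s hs
    obtain ⟨k, hk⟩ := MulAction.exists_smul_eq K (S.subtype hSK) ((x • S).subtype hle)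
    have hk' : (k : G) • S = x • S := by
      have h1 := congrArg (fun P : Sylow 2 K => (P : Subgroup K).map K.subtype) hk
      apply Sylow.ext
      have h2 : (((k • S.subtype hSK : Sylow 2 K) : Subgroup K)).map K.subtype =
          (((k : G) • S : Sylow 2 G) : Subgroup G) := by
        rw [Sylow.coe_subgroup_smul, Sylow.coe_subgroup_smul]
        ext y
        constructor
        · rintro ⟨z, hz, rfl⟩
          obtain ⟨s, hs, rfl⟩ := (Subgroup.mem_smul_pointwise_iff_exists _ _ _).1 hz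
          exact (Subgroup.mem_smul_pointwise_iff_exists _ _ _).2 ⟨s, hs, rfl⟩
        · intro hy
          obtain ⟨s, hs, rfl⟩ := (Subgroup.mem_smul_pointwise_iff_exists _ _ _).1 hy
          refine ⟨MulAut.conj k ⟨s, hSK hs⟩, ?_, rfl⟩
          exact (Subgroup.mem_smul_pointwise_iff_exists _ _ _).2 ⟨⟨s, hSK hs⟩, hs, rfl⟩
      have h3 : ((((x • S).subtype hle : Sylow 2 K) : Subgroup K)).map K.subtype =
          ((x • S : Sylow 2 G) : Subgroup G) := by
        rw [Sylow.coe_subtype, Subgroup.subgroupOf_map_subtype, inf_eq_left]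
        exact hle
      rw [← h2, ← h3]
      exact h1
    have hk2 : (k : G)⁻¹ * x ∈ Subgroup.normalizer ((S : Subgroup G) : Set G) :=
      Sylow.smul_eq_iff_mem_normalizer.1 (by rw [mul_smul, ← hk', inv_smul_smul])
    obtain ⟨v, hv, s, hs, e⟩ := hN _ hk2
    have e2 : x = (k * v) * s := by
      rw [mul_assoc, ← e]; group
    have h3 : (k : G) * v ∈ K := mul_mem k.2 (hSK hv)
    have hsH : s ∈ H := by
      have : s = ((k : G) * v)⁻¹ * x := by rw [e2]; group
      rw [this]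
      exact mul_mem (inv_mem (hKH h3)) hx
    have h4 : t * ((k : G) * v) * t⁻¹ ∈ H := hKH (htK h3)
    have e3 : t * x * t⁻¹ = (t * ((k : G) * v) * t⁻¹) * s := by
      have h5 : t * s = s * t := hTc t ht s hs
      rw [e2]
      calc t * (k * v * s) * t⁻¹ = t * (k * v) * t⁻¹ * (t * s) * t⁻¹ := by group
        _ = _ := by rw [h5]; group
    rw [e3]
    exact mul_mem h4 hsH
  intro x hx
  have h1 := mul_mem (mul_mem (hH hu) (key x hx)) (inv_mem (hH hu))
  convert h1 using 1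
  group

/-! ### root group data with commutative torus -/

section Rgd

open CoxeterSystem Cfsg.Agent.ChevalleyStructure.CoxeterGeom Cfsg.Agent.Tits.Roots Cfsg.Agent.Tits.Core
  Cfsg.Agent.Nodes.Reps Cfsg.Agent.Nodes.BNOf Cfsg.Agent.Nodes.StabComb
  Cfsg.Agent.Nodes.Bruhat Cfsg.Agent.KFacts.RgdAut Cfsg.Agent.H716.RGDAb

theorem po_of_rgdAb {G : Type*} [Group G] [Finite G] (hG : HasRGDAb 2 G) : PO G := by
  have : Fact (Nat.Prime 2) := ⟨Nat.prime_two⟩
  obtain ⟨l, M, A, h, T, n, X, hW, R, hX, hab⟩ := hG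
  have hGG : GG M.toCoxeterSystem h T X = ⊤ := by
    rw [eq_top_iff, ← hX]
    exact le_sup_right
  obtain ⟨S, hS⟩ := H806.RowCharTwo.exists_sylow_UU R hGG
  have hTN := R.T_le_normalizer_U
  have hTS : ∀ t ∈ T, ∀ x ∈ (S : Subgroup G), t * x * t⁻¹ ∈ (S : Subgroup G) := by
    intro t ht x hx
    rw [hS] at hx ⊢
    exact (Subgroup.mem_normalizer_iff.1 (hTN ht) x).1 hx
  refine po_of_bn S T hTS hab ?_ ?_
  · intro g hg
    rw [hS] at hg
    have h1 : g ∈ RGD.B M.toCoxeterSystem h T X := by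
      rw [← normalizer_U' R hGG]
      exact hg
    obtain ⟨t, ht, u, hu, rfl⟩ := R.mem_B.1 h1
    refine ⟨t * u * t⁻¹, hTS t ht u (by rw [hS]; exact hu), t, ht, by group⟩
  · intro g
    have hg : g ∈ GG M.toCoxeterSystem h T X := by rw [hGG]; exact Subgroup.mem_top g
    obtain ⟨w, b₁, hb₁, k, hk, b₂, hb₂, e⟩ := (mem_GG R).1 hg
    obtain ⟨t, ht, u, hu, rfl⟩ := R.mem_B.1 hb₁
    obtain ⟨t', ht', u', hu', rfl⟩ := R.mem_B.1 hb₂
    have hkn := hk.mem_normalizer
    refine ⟨t * u * t⁻¹, hTS t ht u (by rw [hS]; exact hu), t * k * t', ?_, u', by rw [hS]; exact hu', ?_⟩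
    · intro s hs
      have h1 : k⁻¹ * (t⁻¹ * s * t) * k ∈ T := by
        have h2 := (Subgroup.mem_normalizer_iff.1 (inv_mem hkn) (t⁻¹ * s * t)).1
          (mul_mem (mul_mem (inv_mem ht) hs) ht)
        rwa [inv_inv] at h2
      have h3 := mul_mem (mul_mem (inv_mem ht') h1) ht'
      convert h3 using 1
      group
    · rw [e]; group

variable {G : Type*} [Group G] [Finite G]

theorem psl (h : IsPSLChar 2 G) : PO G := by
  have hp : Fact (Nat.Prime 2) := ⟨Nat.prime_two⟩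
  obtain ⟨F, _, _, _, n, hn, -, ⟨e⟩⟩ := h
  obtain ⟨n, rfl⟩ : ∃ k, n = k + 1 := ⟨n - 1, by omega⟩
  exact po_of_rgdAb ((ab_PSL n).of_equiv e.symm)

theorem psp (h : IsPSpChar 2 G) : PO G := by
  have hp : Fact (Nat.Prime 2) := ⟨Nat.prime_two⟩
  obtain ⟨F, _, _, _, m, hm, -, ⟨e⟩⟩ := h
  exact po_of_rgdAb ((ab_PSp (by omega)).of_equiv e.symm)

theorem psu (h : IsPSUChar 2 G) : PO G := by
  have hp : Fact (Nat.Prime 2) := ⟨Nat.prime_two⟩
  obtain ⟨F, _, _, _, n, q, hF, hn, -, ⟨e⟩⟩ := h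
  exact po_of_rgdAb ((ab_PSU hF hn).of_equiv e.symm)

theorem poOdd (h : IsPOmegaOddChar 2 G) : PO G := by
  obtain ⟨F, _, _, _, m, hm, hodd, ⟨e⟩⟩ := h
  obtain ⟨k, -, hk⟩ := FiniteField.card F 2
  rw [hk] at hodd
  exact absurd (even_two.pow_of_ne_zero k.ne_zero) (Nat.not_even_iff_odd.2 hodd)

theorem poPlus (h : IsPOmegaPlusChar 2 G) : PO G := by
  have hp : Fact (Nat.Prime 2) := ⟨Nat.prime_two⟩
  obtain ⟨F, _, _, _, m, hm, ⟨e⟩⟩ := h
  obtain ⟨n, rfl⟩ : ∃ n, m = n + 3 := ⟨m - 3, by omega⟩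
  exact po_of_rgdAb ((ab_PO_plus n).of_equiv e.symm)

theorem poMinus (h : IsPOmegaMinusChar 2 G) : PO G := by
  obtain ⟨F, _, _, _, m, a, b, hm, hab, ⟨e⟩⟩ := h
  exact po_of_rgdAb ((ab_PO_minus_two (CharTwo.two_eq_zero) hab (by omega)).of_equiv e.symm)

theorem exc (h : IsExceptionalChevChar 2 G) : PO G := po_of_rgdAb (ab_exc h)

theorem tw (h : IsTwistedE6D4Char 2 G) : PO G := po_of_rgdAb (ab_tw h)

end Rgd

/-! ### the Suzuki groups -/

theorem po_sz {J : Type*} [Group J] [Finite J] (h : Cfsg.Lie.IsoSuzuki J) : PO J := by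
  obtain ⟨F, iF, iF', m, hm, hF, ⟨R⟩⟩ := Cfsg.Agent.ThreePrime.SzRel.exists_rel h
  obtain ⟨Q, hQ⟩ := R.exists_sylow_eq hm hF
  refine po_of_bn Q R.D ?_ ?_ ?_ ?_
  · intro t ht x hx
    rw [hQ] at hx ⊢
    exact (Subgroup.mem_normalizer_iff.1 (R.D_le ht) x).1 hx
  · rintro _ ⟨k, rfl⟩ _ ⟨l, rfl⟩
    rw [R.d_mul, R.d_mul, mul_comm]
  · intro g hg
    rw [hQ] at hg
    obtain ⟨a, b, k, rfl⟩ := R.norm hg
    exact ⟨R.u a b, by rw [hQ]; exact R.u_mem a b, R.d k, R.d_mem k, rfl⟩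
  · intro g
    rcases R.bruhat g with ⟨a, b, k, rfl⟩ | ⟨a, b, c, e, k, rfl⟩
    · refine ⟨R.u a b, by rw [hQ]; exact R.u_mem a b, R.d k, ?_, 1, one_mem _, by rw [mul_one]⟩
      intro t ht
      exact mul_mem (mul_mem (inv_mem (R.d_mem k)) ht) (R.d_mem k)
    · refine ⟨R.u a b, by rw [hQ]; exact R.u_mem a b, R.w * R.d k, ?_, (R.d k)⁻¹ * R.u c e * R.d k, ?_, ?_⟩
      · rintro _ ⟨l, rfl⟩
        have h1 : R.w⁻¹ * R.d l * R.w = (R.d l)⁻¹ := by
          rw [R.w_inv, R.w_mul_d, mul_assoc, R.w_mul_w, mul_one, R.d_inv]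
        have h2 : (R.w * R.d k)⁻¹ * R.d l * (R.w * R.d k) = (R.d k)⁻¹ * (R.w⁻¹ * R.d l * R.w) * R.d k := by
          group
        rw [h2, h1]
        exact mul_mem (mul_mem (inv_mem (R.d_mem k)) (inv_mem (R.d_mem l))) (R.d_mem k)
      · rw [hQ]
        have h1 := (Subgroup.mem_normalizer_iff.1 (R.D_le (inv_mem (R.d_mem k))) (R.u c e)).1 (R.u_mem c e)
        rwa [inv_inv] at h1
      · group

/-! ### the Ree groups of type `²F₄` -/

section TwF4

open Cfsg.Agent.KFacts.TwF4 Cfsg.Agent.KFacts.TwF4.Arc Cfsg.Agent.KFacts.TwF4.Irr Cfsg.Agent.KFacts.TwF4.Inv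
  Cfsg.Agent.SplitTwo.ZS

variable {F : Type*} [Field F] [Finite F] {σ : F →+* F} {G : Type u} [Group G] [Finite G] (S : Full σ G)

theorem po_full (hF : ∃ c : Fˣ, c ≠ 1) (hR : S.R.p = 2) : PO G := by
  obtain ⟨P, hP⟩ := SylU.exists_sylow S hF hR
  refine po_of_bn P S.T ?_ ?_ ?_ ?_
  · intro t ht x hx
    rw [hP] at hx ⊢
    exact S.T_conj_J ht hx
  · intro s hs t ht
    obtain ⟨c, d, rfl⟩ := S.mem_T.1 hs
    obtain ⟨c', d', rfl⟩ := S.mem_T.1 ht
    rw [S.h_mul, S.h_mul, mul_comm c, mul_comm d]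
  · intro g hg
    rw [hP] at hg ⊢
    exact SylU.norm_U S hF hR (Subgroup.mem_normalizer_iff.1 hg)
  · intro g
    obtain ⟨b, hb, t, ht, w, hw, b', hb', rfl⟩ := S.bruhat g
    rw [hP]
    refine ⟨b, hb, t * w, ?_, b', hb', by group⟩
    intro s hs
    have h1 : ∀ s ∈ S.T, w⁻¹ * s * w ∈ S.T := by
      intro s hs
      have hs' : Cfsg.Agent.TitsThree.RankTwoZ.Maps S.R.X s id := hs
      show Cfsg.Agent.TitsThree.RankTwoZ.Maps S.R.X (w⁻¹ * s * w) id
      obtain ⟨c, hw | hw⟩ := hw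
      · have h2 := hw.inv (g := fun k => k - c) (fun k => by ring)
        exact ((h2.mul hs').mul hw).congr fun k => by simp [Function.comp]
      · have h2 := hw.inv (g := fun k => c - k) (fun k => by ring)
        exact ((h2.mul hs').mul hw).congr fun k => by simp [Function.comp]
    have h2 := h1 _ (mul_mem (mul_mem (inv_mem ht) hs) ht)
    convert h2 using 1
    group

end TwF4

theorem po_twF4 {H : Type*} [Group H] [Finite H] (h : Cfsg.Lie.Iso2F4 H) : PO H := by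
  obtain ⟨K, iK, iK', m, hm, hK, ⟨e⟩⟩ := h
  obtain ⟨φ, hφ⟩ := Cfsg.Agent.ChevalleyStructure.TwF4.TwistedFix.exists_rln hK
  have := Cfsg.Agent.ChevalleyStructure.TwF4.Twisted.charP_two hK
  have hfin : Finite ↥(Cfsg.Lie.twistedF4 K (2 ^ m)) := inferInstance
  have hF : ∃ c : Kˣ, c ≠ 1 := by
    have h1 : 1 < Nat.card Kˣ := by
      rw [Nat.card_units, Nat.card_eq_fintype_card, hK]
      have : 2 ^ 3 ≤ 2 ^ (2 * m + 1) := Nat.pow_le_pow_right (by norm_num) (by omega)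
      omega
    have h2 : Nontrivial Kˣ := Finite.one_lt_card_iff_nontrivial.1 h1
    exact exists_ne 1
  exact PO.congr e.symm (po_full (Cfsg.Agent.KFacts.TwF4.Inst.full hK hφ) hF rfl)

/-! ### all groups of Lie type of characteristic 2 -/

/-- every group of Lie type of characteristic 2 -/
theorem po_char2 {K : Type*} [Group K] [Finite K] (h : Cfsg.IsLieTypeChar 2 K) : PO K := by
  rcases h with h | h | h | h | h | h | h | h | ⟨-, h⟩ | ⟨-, h⟩ | ⟨h, -⟩
  · exact psl h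
  · exact psp h
  · exact psu h
  · exact poOdd h
  · exact poPlus h
  · exact poMinus h
  · exact exc h
  · exact tw h
  · exact po_sz h
  · exact po_twF4 h
  · exact absurd h (by norm_num)

/-- **The row of the groups of Lie type of characteristic 2.** -/
theorem row_char2 {K : Type u} [Group K] [Finite K] [IsSimpleGroup K] (_hna : ¬ IsMulCommutative K)
    (h : Cfsg.IsLieTypeChar 2 K) : PO K := po_char2 h

end Cfsg.Agent.H829.Pron
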